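import Mathlib
import Cfsg.Agent.H21.UniqueSubgroup

/-!
Wielandt's count of subgroups of prime power order, and Burnside's criterion for cyclicity.
-/

set_option autoImplicit false

universe u v

open scoped Pointwise

namespace Cfsg.Agent.H82

variable (G : Type u) [Group G] (k : ℕ)

/-- The action by left translation on the subsets of a given size. -/
def subsetsOfSize : SubMulAction G (Set G) where
  carrier := {A | A.ncard = k}
  smul_mem' g A hA := by
    show (g • A).ncard = k
    rw [← Set.image_smul, Set.ncard_image_of_injective _ (MulAction.injective g)]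
    exact hA

/-- The subsets of a given size with stabiliser smaller than the size. -/
def subsetsIrregular : SubMulAction G (Set G) where
  carrier := {A | A.ncard = k ∧ Nat.card (MulAction.stabilizer G A) ≠ k}
  smul_mem' g A hA := by
    refine ⟨(subsetsOfSize G k).smul_mem g hA.1, ?_⟩
    rw [MulAction.stabilizer_smul_eq_stabilizer_map_conj,
      Subgroup.card_map_of_injective (MulEquiv.injective _)]
    exact hA.2

variable {G k}

/-- The stabiliser of a finite nonempty subset has order dividing its size. -/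
theorem card_stabilizer_dvd [Finite G] (A : Set G) :
    Nat.card (MulAction.stabilizer G A) ∣ A.ncard := by
  classical
  let S := MulAction.stabilizer G A
  let e : A ≃ ↥S × (Quotient.mk (QuotientGroup.rightRel S) '' A) :=
    { toFun := fun a => (⟨a.1 * (Quotient.mk (QuotientGroup.rightRel S) a.1).out⁻¹, by
          have h := Quotient.mk_out (s := QuotientGroup.rightRel S) a.1
          exact QuotientGroup.rightRel_apply.mp h⟩,
        ⟨_, a.1, a.2, rfl⟩)
      invFun := fun x => ⟨x.1.1 * x.2.1.out, by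
        obtain ⟨a, ha, hq⟩ := x.2.2
        have h := Quotient.mk_out (s := QuotientGroup.rightRel S) a
        rw [hq] at h
        have h1 : a * x.2.1.out⁻¹ ∈ S := QuotientGroup.rightRel_apply.mp h
        have h2 : x.1.1 * (a * x.2.1.out⁻¹)⁻¹ ∈ S := S.mul_mem x.1.2 (S.inv_mem h1)
        have h3 : (x.1.1 * (a * x.2.1.out⁻¹)⁻¹) • a ∈ (x.1.1 * (a * x.2.1.out⁻¹)⁻¹) • A :=
          Set.smul_mem_smul_set ha
        rw [MulAction.mem_stabilizer_iff.mp h2, smul_eq_mul, mul_inv_rev, inv_inv, ← mul_assoc,
          inv_mul_cancel_right] at h3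
        exact h3⟩
      left_inv := fun a => Subtype.ext (inv_mul_cancel_right _ _)
      right_inv := fun x => by
        have hq : Quotient.mk (QuotientGroup.rightRel S) (x.1.1 * x.2.1.out) = x.2.1 := by
          conv_rhs => rw [← x.2.1.out_eq]
          apply Quotient.sound
          show QuotientGroup.rightRel S _ _
          rw [QuotientGroup.rightRel_apply, mul_inv_rev, ← mul_assoc, mul_inv_cancel, one_mul]
          exact S.inv_mem x.1.2
        refine Prod.ext (Subtype.ext ?_) (Subtype.ext hq)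
        show x.1.1 * x.2.1.out * (Quotient.mk (QuotientGroup.rightRel S) (x.1.1 * x.2.1.out)).out⁻¹ = _
        rw [hq, mul_inv_cancel_right] }
  refine ⟨Nat.card (Quotient.mk (QuotientGroup.rightRel S) '' A), ?_⟩
  rw [← Nat.card_coe_set_eq, Nat.card_congr e, Nat.card_prod]

/-- Subsets with stabiliser as large as possible are the right cosets of the subgroups of that
order. -/
theorem card_regular_mul [Finite G] (hk : 0 < k) :
    Nat.card {A : Set G // A.ncard = k ∧ Nat.card (MulAction.stabilizer G A) = k} * k =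
      Nat.card {H : Subgroup G // Nat.card H = k} * Nat.card G := by
  classical
  let R := {A : Set G // A.ncard = k ∧ Nat.card (MulAction.stabilizer G A) = k}
  have hcoset : ∀ (H : Subgroup G) (g : G),
      MulAction.stabilizer G ((fun h => h * g) '' (H : Set G)) = H := by
    intro H g
    ext x
    rw [MulAction.mem_stabilizer_iff]
    constructor
    · intro h
      have h1 : x • (1 * g) ∈ x • ((fun h => h * g) '' (H : Set G)) :=
        Set.smul_mem_smul_set ⟨1, H.one_mem, rfl⟩
      rw [h] at h1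
      obtain ⟨y, hy, hyx⟩ := h1
      simp only [one_mul, smul_eq_mul] at hyx
      exact mul_right_cancel hyx ▸ hy
    · intro hx
      ext y
      constructor
      · rintro ⟨_, ⟨h, hh, rfl⟩, rfl⟩
        exact ⟨x * h, H.mul_mem hx hh, mul_assoc x h g⟩
      · rintro ⟨h, hh, rfl⟩
        exact ⟨x⁻¹ * h * g, ⟨x⁻¹ * h, H.mul_mem (H.inv_mem hx) hh, rfl⟩,
          by simp [smul_eq_mul, mul_assoc]⟩
  have hncard : ∀ (H : Subgroup G) (g : G),
      ((fun h => h * g) '' (H : Set G)).ncard = Nat.card H := fun H g => by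
    rw [Set.ncard_image_of_injective _ (mul_left_injective g), ← Nat.card_coe_set_eq]
    rfl
  have hdecomp : ∀ (A : R) (a : G), a ∈ A.1 →
      (fun h => h * a) '' (MulAction.stabilizer G A.1 : Set G) = A.1 := by
    intro A a ha
    refine Set.eq_of_subset_of_ncard_le ?_ (le_of_eq ?_) (Set.toFinite _)
    · rintro _ ⟨h, hh, rfl⟩
      have := Set.smul_mem_smul_set (a := h) ha
      rwa [MulAction.mem_stabilizer_iff.mp hh, smul_eq_mul] at this
    · rw [hncard, A.2.1, A.2.2]
  let e : {H : Subgroup G // Nat.card H = k} × G ≃ Σ A : R, A.1 :=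
    { toFun := fun x => ⟨⟨(fun h => h * x.2) '' (x.1.1 : Set G),
          (hncard _ _).trans x.1.2, by rw [hcoset]; exact x.1.2⟩,
        ⟨x.2, 1, x.1.1.one_mem, one_mul _⟩⟩
      invFun := fun y => (⟨MulAction.stabilizer G y.1.1, y.1.2.2⟩, y.2.1)
      left_inv := fun x => Prod.ext (Subtype.ext (hcoset _ _)) rfl
      right_inv := fun y => Sigma.subtype_ext (Subtype.ext (hdecomp y.1 y.2.1 y.2.2)) rfl }
  have : Fintype R := Fintype.ofFinite R
  refine Eq.trans ?_ ((Nat.card_congr e).symm.trans (Nat.card_prod _ G))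
  rw [Nat.card_sigma, Finset.sum_congr rfl fun (A : R) _ => (Nat.card_coe_set_eq A.1).trans A.2.1,
    Finset.sum_const, Finset.card_univ, ← Nat.card_eq_fintype_card, smul_eq_mul]

/-- Subsets with small stabilisers come in orbits of size divisible by `p * m`. -/
theorem dvd_card_irregular [Finite G] {p β m : ℕ} (hp : p.Prime)
    (hG : Nat.card G = p ^ β * m) :
    p * m ∣ Nat.card (subsetsIrregular G (p ^ β)) := by
  classical
  rw [Nat.card_congr (MulAction.selfEquivSigmaOrbits G (subsetsIrregular G (p ^ β)))]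
  have : Fintype (Quotient (MulAction.orbitRel G (subsetsIrregular G (p ^ β)))) :=
    Fintype.ofFinite _
  rw [Nat.card_sigma]
  refine Finset.dvd_sum fun ω _ => ?_
  set A := ω.out with hA
  rw [show Nat.card (MulAction.orbit G A) = (MulAction.stabilizer G A).index from
    (MulAction.index_stabilizer G A).symm ▸ (Nat.card_coe_set_eq _)]
  rw [SubMulAction.stabilizer_of_subMul]
  obtain ⟨i, hi, hcard⟩ := (Nat.dvd_prime_pow hp).mp (A.2.1 ▸ card_stabilizer_dvd (A : Set G))
  have hlt : i < β := lt_of_le_of_ne hi fun h => A.2.2 (h ▸ hcard)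
  have h1 := (MulAction.stabilizer G (A : Set G)).card_mul_index
  rw [hG, hcard] at h1
  refine ⟨p ^ (β - i - 1), ?_⟩
  refine Nat.eq_of_mul_eq_mul_left (pow_pos hp.pos i) (h1.trans ?_)
  obtain ⟨j, rfl⟩ : ∃ j, β = i + (j + 1) := ⟨β - i - 1, by omega⟩
  rw [show i + (j + 1) - i - 1 = j by omega]
  ring

/-- Wielandt's congruence for the number of subsets of size `p ^ β`. -/
theorem card_subsets_modEq [Finite G] {p β m : ℕ} (hp : p.Prime) (hG : Nat.card G = p ^ β * m) :
    Nat.card (subsetsOfSize G (p ^ β)) ≡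
      Nat.card {H : Subgroup G // Nat.card H = p ^ β} * m [MOD p * m] := by
  classical
  have h := card_regular_mul (G := G) (k := p ^ β) (pow_pos hp.pos β)
  rw [hG, mul_comm (p ^ β) m, ← mul_assoc] at h
  rw [← Nat.eq_of_mul_eq_mul_right (pow_pos hp.pos β) h]
  let e : subsetsOfSize G (p ^ β) ≃ subsetsIrregular G (p ^ β) ⊕
      {A : Set G // A.ncard = p ^ β ∧ Nat.card (MulAction.stabilizer G A) = p ^ β} :=
    { toFun := fun A => if hA : Nat.card (MulAction.stabilizer G A.1) = p ^ β
        then Sum.inr ⟨A.1, A.2, hA⟩ else Sum.inl ⟨A.1, A.2, hA⟩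
      invFun := Sum.elim (fun A => ⟨A.1, A.2.1⟩) (fun A => ⟨A.1, A.2.1⟩)
      left_inv := fun A => by
        dsimp only
        split_ifs <;> rfl
      right_inv := fun A => by
        rcases A with ⟨A, h1, h2⟩ | ⟨A, h1, h2⟩
        · dsimp only [Sum.elim_inl]
          rw [dif_neg h2]
        · dsimp only [Sum.elim_inr]
          rw [dif_pos h2] }
  rw [Nat.card_congr e, Nat.card_sum]
  have h0 := Nat.modEq_zero_iff_dvd.mpr (dvd_card_irregular (G := G) hp hG)
  exact (h0.add_right _).trans (by rw [zero_add])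

/-- Subgroups of a finite cyclic group are determined by their orders. -/
theorem eq_iff_card_eq_of_isCyclic' {C : Type v} [Group C] [Finite C] [IsCyclic C]
    (A B : Subgroup C) : A = B ↔ Nat.card A = Nat.card B := by
  refine ⟨fun h => by rw [h], fun h => ?_⟩
  let _ : CommGroup C := IsCyclic.commGroup
  have key : ∀ D : Subgroup C, Nat.card D = Nat.card A →
      D = (powMonoidHom (Nat.card A) : C →* C).ker := by
    intro D hD
    refine Subgroup.eq_of_le_of_card_ge (fun x hx => ?_) ?_
    · show x ^ Nat.card A = 1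
      rw [← hD]
      exact congrArg Subtype.val (pow_card_eq_one' (x := (⟨x, hx⟩ : D)))
    · rw [IsCyclic.card_powMonoidHom_ker, Nat.gcd_eq_right (Subgroup.card_subgroup_dvd_card A), hD]
  rw [key A rfl, key B h.symm]

/-- The number of subgroups of order `p ^ β` is one modulo `p`. -/
theorem card_subgroups_modEq_one [Finite G] {p β : ℕ} (hp : p.Prime) (hdiv : p ^ β ∣ Nat.card G) :
    Nat.card {H : Subgroup G // Nat.card H = p ^ β} ≡ 1 [MOD p] := by
  obtain ⟨m, hm⟩ := hdiv
  have hm0 : 0 < m := by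
    rcases Nat.eq_zero_or_pos m with h | h
    · rw [h, mul_zero] at hm
      exact absurd hm Nat.card_pos.ne'
    · exact h
  let C := Multiplicative (ZMod (Nat.card G))
  have : NeZero (Nat.card G) := ⟨Nat.card_pos.ne'⟩
  have hCG : Nat.card C = Nat.card G := Nat.card_zmod _
  obtain ⟨f⟩ : Nonempty (C ≃ G) := Cardinal.lift_mk_eq'.mp (by
    rw [← Nat.cast_card (α := C), ← Nat.cast_card (α := G), hCG]
    simp)
  have h1 : Nat.card {H : Subgroup C // Nat.card H = p ^ β} = 1 := by
    rw [Nat.card_eq_one_iff_unique]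
    have : Fact p.Prime := ⟨hp⟩
    refine ⟨⟨fun H K => Subtype.ext ?_⟩, ?_⟩
    · exact (eq_iff_card_eq_of_isCyclic' _ _).mpr (H.2.trans K.2.symm)
    · obtain ⟨H, hH⟩ := Sylow.exists_subgroup_card_pow_prime p
        (show p ^ β ∣ Nat.card C from hCG ▸ ⟨m, hm⟩)
      exact ⟨⟨H, hH⟩⟩
  have h2 := card_subsets_modEq (G := C) hp (hCG.trans hm)
  have h3 := card_subsets_modEq (G := G) hp hm
  rw [h1] at h2
  have h4 : Nat.card (subsetsOfSize C (p ^ β)) = Nat.card (subsetsOfSize G (p ^ β)) := by
    refine Nat.card_congr ((Equiv.Set.congr f).subtypeEquiv fun A => ?_)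
    show A.ncard = p ^ β ↔ (f '' A).ncard = p ^ β
    rw [Set.ncard_image_of_injective _ f.injective]
  rw [h4] at h2
  exact Nat.ModEq.mul_right_cancel' hm0.ne' (h3.symm.trans h2)

/-- The number of normal subgroups of a given order in a `p`-group is one modulo `p`. -/
theorem card_normal_subgroups_modEq_one [Finite G] {p m s : ℕ} (hp : p.Prime)
    (hG : Nat.card G = p ^ m) (hs : s ≤ m) :
    Nat.card {H : Subgroup G // H.Normal ∧ Nat.card H = p ^ s} ≡ 1 [MOD p] := by
  classical
  have : Fact p.Prime := ⟨hp⟩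
  have hmap : ∀ (g : G) (H : Subgroup G), Nat.card (H.map (MulAut.conj g).toMonoidHom) = Nat.card H :=
    fun g H => Subgroup.card_map_of_injective (MulEquiv.injective _)
  let X := {H : Subgroup G // Nat.card H = p ^ s}
  let _ : MulAction G X :=
    { smul := fun g H => ⟨H.1.map (MulAut.conj g).toMonoidHom, (hmap g H.1).trans H.2⟩
      one_smul := fun H => Subtype.ext (by
        show H.1.map (MulAut.conj (1 : G)).toMonoidHom = H.1
        rw [map_one]
        exact Subgroup.map_id _)
      mul_smul := fun g h H => Subtype.ext (by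
        show H.1.map (MulAut.conj (g * h)).toMonoidHom =
          (H.1.map (MulAut.conj h).toMonoidHom).map (MulAut.conj g).toMonoidHom
        rw [Subgroup.map_map, map_mul]
        rfl) }
  have hfix : ∀ H : X, H ∈ MulAction.fixedPoints G X ↔ H.1.Normal := by
    intro H
    constructor
    · intro h
      refine ⟨fun n hn g => ?_⟩
      exact (congrArg Subtype.val (h g)).le ⟨n, hn, rfl⟩
    · intro hN g
      refine Subtype.ext (Subgroup.eq_of_le_of_card_ge ?_ (hmap g H.1).ge)
      rintro _ ⟨n, hn, rfl⟩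
      exact hN.conj_mem n hn g
  let e : {H : Subgroup G // H.Normal ∧ Nat.card H = p ^ s} ≃ MulAction.fixedPoints G X :=
    { toFun := fun H => ⟨⟨H.1, H.2.2⟩, (hfix _).mpr H.2.1⟩
      invFun := fun H => ⟨H.1.1, (hfix _).mp H.2, H.1.2⟩
      left_inv := fun H => rfl
      right_inv := fun H => rfl }
  rw [Nat.card_congr e]
  exact ((IsPGroup.of_card hG).card_modEq_card_fixedPoints X).symm.trans
    (card_subgroups_modEq_one hp (hG ▸ pow_dvd_pow p hs))

/-- A `p`-group with exactly one subgroup of some order is cyclic. -/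
theorem isCyclic_of_unique_order [Finite G] {p m s : ℕ} (hp : p.Prime) (hG : Nat.card G = p ^ m)
    (hs : 1 ≤ s) (hsm : s < m) (h2 : p ≠ 2 ∨ 2 ≤ s)
    (huniq : ∀ H K : Subgroup G, Nat.card H = p ^ s → Nat.card K = p ^ s → H = K) :
    IsCyclic G := by
  classical
  have : Fact p.Prime := ⟨hp⟩
  have hpG : IsPGroup p G := IsPGroup.of_card hG
  obtain ⟨H, hH⟩ := Sylow.exists_subgroup_card_pow_prime p (hG ▸ pow_dvd_pow p hsm.le)
  obtain ⟨K, hK, hHK⟩ := Sylow.exists_subgroup_card_pow_succ (hG ▸ pow_dvd_pow p hsm) hH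
  -- every small subgroup lies in the unique one
  have hsmall : ∀ (U : Subgroup G) (i : ℕ), Nat.card U = p ^ i → i ≤ s → U ≤ H := by
    intro U i hU hi
    obtain ⟨V, hV, hUV⟩ := Sylow.exists_subgroup_card_pow_prime_le p
      (hG ▸ pow_dvd_pow p hsm.le) U hU hi
    exact huniq V H hV hH ▸ hUV
  -- an element outside generates a cyclic overgroup
  obtain ⟨k, hkK, hkH⟩ : ∃ k ∈ K, k ∉ H := by
    by_contra hcon
    push Not at hcon
    have := Subgroup.card_le_of_le (show K ≤ H from hcon)
    rw [hH, hK] at this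
    exact absurd ((Nat.pow_le_pow_iff_right hp.one_lt).mp this) (by omega)
  obtain ⟨i, hi⟩ := IsPGroup.iff_orderOf.mp hpG k
  have hsi : s < i := by
    by_contra hle
    exact hkH (hsmall (Subgroup.zpowers k) i (by rw [Nat.card_zpowers, hi]) (by omega)
      (Subgroup.mem_zpowers k))
  have hKz : Subgroup.zpowers k = K := Subgroup.eq_of_le_of_card_ge (Subgroup.zpowers_le.mpr hkK)
    (by rw [hK, Nat.card_zpowers, hi]; exact Nat.pow_le_pow_right hp.pos hsi)
  have hKcyc : IsCyclic K := hKz ▸ inferInstance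
  have hHcyc : IsCyclic H := isCyclic_of_injective (Subgroup.inclusion hHK)
    (Subgroup.inclusion_injective hHK)
  have hu : ∀ (i : ℕ), i ≤ s → ∀ A B : Subgroup G, Nat.card A = p ^ i → Nat.card B = p ^ i →
      A = B := by
    intro i hi A B hA hB
    have h1 : A.subgroupOf H = B.subgroupOf H := (eq_iff_card_eq_of_isCyclic' _ _).mpr (by
      rw [Nat.card_congr (Subgroup.subgroupOfEquivOfLe (hsmall A i hA hi)).toEquiv,
        Nat.card_congr (Subgroup.subgroupOfEquivOfLe (hsmall B i hB hi)).toEquiv, hA, hB])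
    rw [← inf_eq_left.mpr (hsmall A i hA hi), ← Subgroup.subgroupOf_map_subtype, h1,
      Subgroup.subgroupOf_map_subtype, inf_eq_left.mpr (hsmall B i hB hi)]
  rcases Cfsg.Agent.H21.cyclic_or_quaternion p hpG
    (fun A B hA hB => hu 1 hs A B (by rw [hA, pow_one]) (by rw [hB, pow_one])) with h | ⟨hp2, n, ⟨e⟩⟩
  · exact h
  subst hp2
  have hs2 : 2 ≤ s := h2.resolve_left (fun h => h rfl)
  rcases Nat.eq_zero_or_pos n with rfl | hn
  · have hc : IsCyclic (QuaternionGroup (2 ^ 0)) := isCyclic_of_orderOf_eq_card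
      (QuaternionGroup.xa 0) (by rw [QuaternionGroup.orderOf_xa, Nat.card_eq_fintype_card,
        QuaternionGroup.card, pow_zero, mul_one])
    exact isCyclic_of_surjective e.symm e.symm.surjective
  · exfalso
    have h4 : ∀ i, Nat.card (Subgroup.zpowers (e.symm (QuaternionGroup.xa i))) = 2 ^ 2 := fun i => by
      rw [Nat.card_zpowers, MulEquiv.orderOf_eq, QuaternionGroup.orderOf_xa]; norm_num
    have h := (hu 2 hs2 _ _ (h4 0) (h4 1)).ge (Subgroup.mem_zpowers _)
    obtain ⟨j, hj⟩ := Subgroup.mem_zpowers_iff.mp h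
    rw [← map_zpow, e.symm.injective.eq_iff] at hj
    have hper : QuaternionGroup.xa (0 : ZMod (2 * 2 ^ n)) ^ j =
        QuaternionGroup.xa (0 : ZMod (2 * 2 ^ n)) ^ (j % 4) := by
      rw [← zpow_mod_orderOf, QuaternionGroup.orderOf_xa]; norm_num
    have hb := Int.emod_nonneg j (show (4 : ℤ) ≠ 0 by norm_num)
    have hb' := Int.emod_lt_of_pos j (show (0 : ℤ) < 4 by norm_num)
    rw [hper] at hj
    have hne : ∀ l : ℤ, l = 0 ∨ l = 1 ∨ l = 2 ∨ l = 3 →
        QuaternionGroup.xa (0 : ZMod (2 * 2 ^ n)) ^ l ≠ QuaternionGroup.xa 1 := by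
      have h1 : ((1 : ℕ) : ZMod (2 * 2 ^ n)) ≠ 0 := by
        rw [Ne, ZMod.natCast_eq_zero_iff]
        intro hd
        have := Nat.le_of_dvd one_pos hd
        have := Nat.one_le_two_pow (n := n)
        omega
      have hne2 : ((2 ^ n : ℕ) : ZMod (2 * 2 ^ n)) ≠ ((1 : ℕ) : ZMod (2 * 2 ^ n)) := by
        rw [Ne, ZMod.natCast_eq_natCast_iff']
        have h2n : 2 ≤ 2 ^ n := Nat.le_self_pow hn.ne' 2
        rw [Nat.mod_eq_of_lt (by omega), Nat.mod_eq_of_lt (by omega)]
        omega
      push_cast at h1 hne2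
      rintro l (rfl | rfl | rfl | rfl) hl
      · rw [zpow_zero, QuaternionGroup.one_def] at hl
        cases hl
      · rw [zpow_one] at hl
        exact h1 (QuaternionGroup.xa.inj hl).symm
      · rw [show (2 : ℤ) = ((2 : ℕ) : ℤ) from rfl, zpow_natCast, pow_two,
          QuaternionGroup.xa_mul_xa] at hl
        cases hl
      · rw [show (3 : ℤ) = ((3 : ℕ) : ℤ) from rfl, zpow_natCast, pow_succ, pow_two,
          QuaternionGroup.xa_mul_xa, QuaternionGroup.a_mul_xa] at hl
        have h' := QuaternionGroup.xa.inj hl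
        simp only [add_zero, sub_zero, zero_sub] at h'
        have h0 : ((2 * 2 ^ n : ℕ) : ZMod (2 * 2 ^ n)) = 0 := ZMod.natCast_self _
        push_cast at h0 h'
        exact hne2 (by linear_combination h' + h0)
    exact hne (j % 4) (by omega) hj

end Cfsg.Agent.H82
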